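import Mathlib

/-!
# Lifting sections along an extension by a flasque sheaf of groups
-/

set_option autoImplicit false

open CategoryTheory TopologicalSpace Opposite TopCat

namespace Groth.Agent.FlasqueGrp

universe u

variable {X : TopCat.{u}}

/-- Restriction of sections. -/
noncomputable abbrev res (P : Presheaf GrpCat.{u} X) {U V : Opens X} (h : V ≤ U) :
    P.obj (op U) →* P.obj (op V) :=
  (P.map (homOfLE h).op).hom

theorem res_res (P : Presheaf GrpCat.{u} X) {U V W : Opens X} (h : V ≤ U) (h' : W ≤ V)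
    (x : P.obj (op U)) : res P h' (res P h x) = res P (h'.trans h) x := by
  show (P.map _ ≫ P.map _).hom x = _
  rw [← P.map_comp]
  rfl

theorem app_res {P Q : Presheaf GrpCat.{u} X} (f : P ⟶ Q) {U V : Opens X} (h : V ≤ U)
    (x : P.obj (op U)) : (f.app (op V)).hom (res P h x) = res Q h ((f.app (op U)).hom x) := by
  show (P.map _ ≫ f.app _).hom x = _
  rw [f.naturality]
  rfl

theorem exists_glue {P : Presheaf GrpCat.{u} X} (hP : P.IsSheaf) {ι : Type u} (V : ι → Opens X)
    (sf : ∀ i, P.obj (op (V i)))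
    (h : ∀ i j, res P (inf_le_left : V i ⊓ V j ≤ V i) (sf i) = res P inf_le_right (sf j)) :
    ∃ s : P.obj (op (iSup V)), ∀ i, res P (le_iSup V i) s = sf i :=
  (TopCat.Sheaf.existsUnique_gluing' (⟨P, hP⟩ : TopCat.Sheaf GrpCat.{u} X) V (iSup V)
    (fun i => homOfLE (le_iSup V i)) le_rfl sf h).exists

theorem eq_of_res {P : Presheaf GrpCat.{u} X} (hP : P.IsSheaf) {ι : Type u} (V : ι → Opens X)
    (s t : P.obj (op (iSup V))) (h : ∀ i, res P (le_iSup V i) s = res P (le_iSup V i) t) : s = t :=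
  TopCat.Sheaf.eq_of_locally_eq' (⟨P, hP⟩ : TopCat.Sheaf GrpCat.{u} X) V (iSup V)
    (fun i => homOfLE (le_iSup V i)) le_rfl s t h

theorem surjective_app {F G H : Presheaf GrpCat.{u} X} (hG : G.IsSheaf) (hH : H.IsSheaf)
    (α : F ⟶ G) (β : G ⟶ H)
    (hex : ∀ (U : Opens X) (g : G.obj (op U)),
      (β.app (op U)).hom g = 1 ↔ g ∈ Set.range (α.app (op U)).hom)
    (hβ : ∀ (U : Opens X) (s : H.obj (op U)) (x : X), x ∈ U →
      ∃ (V : Opens X) (hV : V ≤ U), x ∈ V ∧ ∃ g : G.obj (op V), (β.app (op V)).hom g = res H hV s)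
    (hfl : ∀ (U V : Opens X) (hUV : V ≤ U), Function.Surjective (res F hUV)) (U : Opens X) :
    Function.Surjective (β.app (op U)).hom := by
  intro s
  let T : Type u := Σ' (V : Opens X) (hV : V ≤ U), {g : G.obj (op V) // (β.app (op V)).hom g = res H hV s}
  let r : T → T → Prop := fun p q => ∃ h : p.1 ≤ q.1, res G h q.2.2.1 = p.2.2.1
  obtain ⟨⟨V, hV, g, hg⟩, hmax⟩ : ∃ m : T, ∀ a, r m a → r a m := by
    refine exists_maximal_of_chains_bounded (fun c hc => ?_) ?_
    · obtain ⟨gl, hgl⟩ := exists_glue hG (fun i : c => i.1.1) (fun i => i.1.2.2.1) (fun i j => by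
        rcases eq_or_ne i.1 j.1 with he | he
        · obtain rfl : i = j := Subtype.ext he
          rfl
        rcases hc i.2 j.2 he with ⟨h, he'⟩ | ⟨h, he'⟩
        · rw [← he', res_res]
        · rw [← he', res_res])
      have hle : (⨆ i : c, i.1.1) ≤ U := iSup_le fun i => i.1.2.1
      refine ⟨⟨_, hle, gl, eq_of_res hH _ _ _ fun i => ?_⟩, fun a ha => ⟨le_iSup (fun i : c => i.1.1) ⟨a, ha⟩, hgl ⟨a, ha⟩⟩⟩
      rw [← app_res, hgl i, res_res]
      exact i.1.2.2.2
    · rintro a b c ⟨h, he⟩ ⟨h', he'⟩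
      exact ⟨h.trans h', by rw [← res_res G h' h, he', he]⟩
  suffices hVU : V = U by
    subst hVU
    exact ⟨g, hg.trans (by show (H.map _).hom s = s; rw [Subsingleton.elim (homOfLE hV) (𝟙 V), op_id, H.map_id]; rfl)⟩
  refine le_antisymm hV fun x hx => ?_
  obtain ⟨W, hW, hxW, g', hg'⟩ := hβ U s x hx
  have h1 : (β.app (op (V ⊓ W))).hom (res G inf_le_left g * (res G inf_le_right g')⁻¹) = 1 := by
    rw [map_mul, map_inv, app_res, app_res, hg, hg', res_res, res_res, mul_inv_cancel]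
  obtain ⟨f, hf⟩ := (hex _ _).1 h1
  obtain ⟨f', rfl⟩ := hfl W (V ⊓ W) inf_le_right f
  let g'' := (α.app (op W)).hom f' * g'
  have hg'' : res G (inf_le_right : V ⊓ W ≤ W) g'' = res G inf_le_left g := by
    simp only [g'', map_mul]
    rw [← app_res, hf, inv_mul_cancel_right]
  have hg''β : (β.app (op W)).hom g'' = res H hW s := by
    simp only [g'', map_mul]
    rw [(hex W _).2 ⟨f', rfl⟩, one_mul, hg']
  let I : ULift.{u} Bool → Opens X := fun b => if b.down then V else W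
  let sf : ∀ b, {t : G.obj (op (I b)) // ∀ h : I b ≤ U, (β.app (op (I b))).hom t = res H h s} :=
    fun b => match b with
      | ⟨true⟩ => ⟨g, fun _ => hg⟩
      | ⟨false⟩ => ⟨g'', fun _ => hg''β⟩
  obtain ⟨gl, hgl⟩ := exists_glue hG I (fun b => (sf b).1) (by
    rintro ⟨_ | _⟩ ⟨_ | _⟩
    · rfl
    · show res G (inf_le_left : W ⊓ V ≤ W) g'' = res G inf_le_right g
      have h := congrArg (res G (le_inf inf_le_right inf_le_left : W ⊓ V ≤ V ⊓ W)) hg''
      rwa [res_res, res_res] at h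
    · show res G (inf_le_left : V ⊓ W ≤ V) g = res G inf_le_right g''
      exact hg''.symm
    · rfl)
  have hIU : ∀ b, I b ≤ U := by rintro ⟨_ | _⟩; exacts [hW, hV]
  have hle : iSup I ≤ U := iSup_le hIU
  have hβgl : (β.app (op (iSup I))).hom gl = res H hle s := eq_of_res hH I _ _ fun b => by
    rw [← app_res, hgl b, res_res]
    exact (sf b).2 _
  obtain ⟨h, -⟩ := hmax ⟨iSup I, hle, gl, hβgl⟩ ⟨le_iSup I ⟨true⟩, hgl ⟨true⟩⟩
  exact h (le_iSup I ⟨false⟩ hxW)

end Groth.Agent.FlasqueGrp
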